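import Mathlib

/-!
# Definitions for the ring-theoretic proof of Brandt's theorem (`k(B) = 2 ⟹ |D| = 2`, S4607)

For a `k`-algebra `A`: the span of the additive commutators, the left ideal `A e`, the right ideal
`e A` and the corner `e A e` as `k`-subspaces, and symmetrizing forms.
-/

set_option autoImplicit false

namespace Cfsg.Agent.Helper78.Brandt

variable (k : Type*) [Field k]

/-- The `k`-span of all additive commutators `a * b - b * a` of the algebra `A`. -/
def commSpan (A : Type*) [Ring A] [Algebra k A] : Submodule k A :=
  Submodule.span k {z : A | ∃ a b : A, z = a * b - b * a}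

variable {A : Type*} [Ring A] [Algebra k A]

/-- The left ideal `A e`, as a `k`-subspace: the range of right multiplication by `e`. -/
def leftSpace (e : A) : Submodule k A := LinearMap.range (LinearMap.mulRight k e)

/-- The right ideal `e A`, as a `k`-subspace: the range of left multiplication by `e`. -/
def rightSpace (e : A) : Submodule k A := LinearMap.range (LinearMap.mulLeft k e)

/-- The corner `e A e`, as a `k`-subspace. -/
def cornerSpace (e : A) : Submodule k A :=
  LinearMap.range ((LinearMap.mulLeft k e).comp (LinearMap.mulRight k e))

/-- The `k`-span of the additive commutators of elements of the corner `e A e`. -/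
def cornerCommSpan (e : A) : Submodule k A :=
  Submodule.span k {z : A | ∃ a b : A, z = (e * a * e) * (e * b * e) - (e * b * e) * (e * a * e)}

/-- `lam` is a symmetrizing form on `A`: `lam (a b) = lam (b a)` and the bilinear form
`(a, b) ↦ lam (a b)` is nondegenerate. -/
structure IsSymmForm (lam : A →ₗ[k] k) : Prop where
  comm : ∀ a b : A, lam (a * b) = lam (b * a)
  nondeg : ∀ a : A, (∀ b : A, lam (a * b) = 0) → a = 0

variable {k}

theorem mem_leftSpace {e x : A} : x ∈ leftSpace k e ↔ ∃ a : A, a * e = x := by
  simp [leftSpace, LinearMap.mem_range]

theorem mem_rightSpace {e x : A} : x ∈ rightSpace k e ↔ ∃ a : A, e * a = x := by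
  simp [rightSpace, LinearMap.mem_range]

theorem mem_cornerSpace {e x : A} : x ∈ cornerSpace k e ↔ ∃ a : A, e * (a * e) = x := by
  simp [cornerSpace, LinearMap.mem_range]

theorem sub_mem_commSpan (a b : A) : a * b - b * a ∈ commSpan k A :=
  Submodule.subset_span ⟨a, b, rfl⟩

end Cfsg.Agent.Helper78.Brandt
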