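import Cfsg.Agent.Helper78.Brandt.RedAlg

/-!
# The matrix of multiplication by a block idempotent on the center, in the basis of class sums
-/

set_option autoImplicit false

namespace Cfsg.Agent.Helper78.Brandt

open Cfsg

universe u

variable {G : Type u} [Group G] [Fintype G]

open Classical in
/-- The matrix, in the basis of class sums `Ĉ`, of multiplication by the block idempotent of `B` on
the center of the complex group algebra: `Ĉ' e_B = ∑_C (classMat B C C') Ĉ`, i.e. the entry is the
coefficient of a representative of `C` in `Ĉ' e_B`. -/
noncomputable def classMat (B : Set (IrrCharacter G)) :
    Matrix (ConjClasses G) (ConjClasses G) ℂ :=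
  fun C C' => ∑ x : G, if ConjClasses.mk x = C' then blockCoeff B (x⁻¹ * Quotient.out C) else 0

/-- The matrix of right multiplication by the block idempotent of `B` on the complex group
algebra, in the basis of group elements. -/
noncomputable def regMat (B : Set (IrrCharacter G)) : Matrix G G ℂ :=
  fun g x => blockCoeff B (x⁻¹ * g)

end Cfsg.Agent.Helper78.Brandt
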