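import Cfsg.Agent.Helper78.Brandt.Defs
import Cfsg.Agent.Helper78.Residue
import Cfsg.Agent.Helper16.ConvAlg
import Cfsg.Agent.Helper16.UnionBlocks
import Cfsg.Agent.Helper77.BlockOrth

/-!
# Reduction of complex functions on `G` to the group algebra over the residue field

`redAlg M f = ∑ g, resMap M (f g) • g`; it is multiplicative (for convolution) on functions with
values in the local ring.  `epsB M B` is the reduction of the block idempotent: a central
idempotent of the group algebra `k G`, `k = ResField M`.  The group algebra is a symmetric algebra.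
-/

set_option autoImplicit false

namespace Cfsg.Agent.Helper78.Brandt

open Cfsg Cfsg.Agent.Helper78

universe u

variable {G : Type u} [Group G] [Fintype G]

/-- Coefficients of a product in a group algebra of a finite group. -/
theorem coeff_mul_eq_sum {k : Type*} [Field k] (a b : MonoidAlgebra k G) (g : G) :
    (a * b).coeff g = ∑ x : G, a.coeff x * b.coeff (x⁻¹ * g) := by
  classical
  rw [MonoidAlgebra.coeff_mul_apply_left, Finsupp.sum_fintype]
  intro i
  simp

variable (M : Ideal AlgInt) [M.IsPrime]

/-- Reduction modulo `M` of a complex function on `G`, as an element of the group algebra over the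
residue field. -/
noncomputable def redAlg (f : G → ℂ) : MonoidAlgebra (ResField M) G :=
  ∑ g : G, MonoidAlgebra.single g (resMap M (f g))

/-- The reduction of the block idempotent of `B`. -/
noncomputable def epsB (B : Set (IrrCharacter G)) : MonoidAlgebra (ResField M) G :=
  redAlg M (blockCoeff B)

theorem coeff_redAlg (f : G → ℂ) (g : G) : (redAlg M f).coeff g = resMap M (f g) := by
  classical
  unfold redAlg
  rw [MonoidAlgebra.coeff_sum, Finsupp.finset_sum_apply, Finset.sum_eq_single g]
  · rw [MonoidAlgebra.coeff_single]
    exact Finsupp.single_eq_same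
  · intro b _ hb
    rw [MonoidAlgebra.coeff_single]
    exact Finsupp.single_eq_of_ne hb.symm
  · intro h
    exact absurd (Finset.mem_univ g) h

theorem redAlg_conv {f h : G → ℂ} (hf : Helper16.RValued M f) (hh : Helper16.RValued M h) :
    redAlg M (Helper16.conv f h) = redAlg M f * redAlg M h := by
  classical
  apply MonoidAlgebra.coeff_injective
  ext g
  rw [coeff_redAlg, coeff_mul_eq_sum, Helper16.conv_apply, resMap_sum]
  · refine Finset.sum_congr rfl (fun x _ => ?_)
    rw [resMap_mul (hf x) (hh _), coeff_redAlg, coeff_redAlg]
  · intro x _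
    exact Helper77.memLocalRing_mul M (hf x) (hh _)

theorem coeff_epsB (B : Set (IrrCharacter G)) (g : G) :
    (epsB M B).coeff g = resMap M (blockCoeff B g) := coeff_redAlg M _ g

theorem epsB_isIdempotentElem {B : Set (IrrCharacter G)} (hB : IsPBlock M B) :
    IsIdempotentElem (epsB M B) := by
  have hR : Helper16.RValued M (blockCoeff B) := fun g => Helper16.osima hB g
  unfold IsIdempotentElem epsB
  rw [← redAlg_conv M hR hR, Helper77.blockCoeff_conv_self hB]

theorem epsB_central (B : Set (IrrCharacter G)) (a : MonoidAlgebra (ResField M) G) :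
    epsB M B * a = a * epsB M B := by
  classical
  have hcl : IsClassFunction G (blockCoeff B) := Helper16.isClassFunction_blockCoeff B
  have hkey : ∀ g : G, epsB M B * MonoidAlgebra.of (ResField M) G g =
      MonoidAlgebra.of (ResField M) G g * epsB M B := by
    intro g
    apply MonoidAlgebra.coeff_injective
    ext x
    rw [MonoidAlgebra.of_apply, MonoidAlgebra.coeff_mul_single_apply,
      MonoidAlgebra.coeff_single_mul_apply, mul_one, one_mul, coeff_epsB, coeff_epsB]
    congr 1
    have h1 := hcl (x * g⁻¹) g⁻¹
    rw [inv_inv] at h1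
    rw [← h1]
    congr 1
    group
  induction a using MonoidAlgebra.induction_on with
  | of g => exact hkey g
  | add a b ha hb => rw [mul_add, add_mul, ha, hb]
  | smul c a ha => rw [mul_smul_comm, smul_mul_assoc, ha]

/-- The group algebra is a symmetric algebra: `lam a = a 1`. -/
theorem exists_symmForm_monoidAlgebra (k : Type*) [Field k] :
    ∃ lam : MonoidAlgebra k G →ₗ[k] k, IsSymmForm k lam := by
  classical
  refine ⟨(Finsupp.lapply (1 : G)).comp (MonoidAlgebra.coeffLinearEquiv k).toLinearMap, ⟨?_, ?_⟩⟩
  · intro a b
    show (a * b).coeff 1 = (b * a).coeff 1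
    rw [coeff_mul_eq_sum, coeff_mul_eq_sum, ← Equiv.sum_comp (Equiv.inv G)]
    refine Finset.sum_congr rfl (fun x _ => ?_)
    simp [mul_comm]
  · intro a ha
    apply MonoidAlgebra.coeff_injective
    ext g
    have h1 := ha (MonoidAlgebra.single g⁻¹ 1)
    have h2 : (a * MonoidAlgebra.single g⁻¹ 1).coeff 1 = 0 := h1
    rw [MonoidAlgebra.coeff_mul_single_apply] at h2
    simpa using h2

end Cfsg.Agent.Helper78.Brandt
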