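import Cfsg.Agent.Helper78.Brandt.AbstractRT
import Cfsg.Agent.Helper78.Brandt.RedAlg
import Cfsg.Agent.Helper78.Brandt.ClassMat
import Cfsg.Agent.Helper78.BlockBasic
import Cfsg.Agent.Helper22.ResFieldAlgClosed
import Cfsg.Agent.Helper79.DefectZeroBlock
import Cfsg.Agent.Helper16.DefectClasses
import Cfsg.Agent.Helper31.BrandtRK
import Cfsg.Agent.Helper53.BrandtGC1
import Cfsg.Agent.Helper53.BrandtGD1
import Cfsg.Agent.Helper38.BrandtGC2
import Cfsg.Agent.Helper11.BrandtGD2
import Cfsg.Agent.Helper80.BrandtGG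
import Cfsg.Agent.S4491
import Cfsg.Agent.S0908

/-!
# Brandt's theorem: a block with exactly two irreducible characters has defect group of order two

Final assembly for S4607, direction `k(B) = 2 ⟹ |D| = 2` (pieces: helper80 B-GG, helper31 B-RK,
helper53 B-GC1/B-GD1, helper38 B-GC2, helper11 B-GD2, and `AbstractRT`).
-/

set_option autoImplicit false

namespace Cfsg.Agent.Helper78.Brandt

open Module Cfsg Cfsg.Agent.Helper78

universe u

section group

variable {G : Type u} [Group G] [Fintype G]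

variable (M : Ideal AlgInt) [M.IsPrime]

/-- the dimension of the block algebra. -/
theorem finrank_leftSpace_epsB {B : Set (IrrCharacter G)} (hB : IsPBlock M B) :
    finrank (ResField M) (leftSpace (ResField M) (epsB M B)) =
      ∑ᶠ χ ∈ B, charDegree (χ : G → ℂ) ^ 2 := by
  classical
  obtain ⟨h1, h2, h3⟩ := Cfsg.Agent.Helper53.Brandt.regMat_props M hB
  obtain ⟨h4, h5⟩ := Cfsg.Agent.Helper31.BrandtRK.rank_map_resMap M (regMat B) h1 h2
  rw [Cfsg.Agent.Helper38.BrandtGC2.finrank_leftSpace_epsB_eq_rank M hB, h4]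
  have : (((regMat B).rank : ℕ) : ℂ) = ((∑ᶠ χ ∈ B, charDegree (χ : G → ℂ) ^ 2 : ℕ) : ℂ) := by
    rw [h5, h3]
  exact_mod_cast this

/-- the dimension of the center of the block algebra. -/
theorem finrank_center_mul_epsB_le {B : Set (IrrCharacter G)} (hB : IsPBlock M B) :
    finrank (ResField M) (Submodule.map (LinearMap.mulRight (ResField M) (epsB M B))
      (Subalgebra.toSubmodule (Subalgebra.center (ResField M) (MonoidAlgebra (ResField M) G)))) ≤
      Nat.card B := by
  classical
  obtain ⟨h1, h2, h3⟩ := Cfsg.Agent.Helper53.Brandt.classMat_props M hB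
  obtain ⟨h4, -⟩ := Cfsg.Agent.Helper31.BrandtRK.rank_map_resMap M (classMat B) h1 h2
  rw [Cfsg.Agent.Helper11.BrandtGD2.finrank_center_mul_epsB_eq_rank M hB, h4]
  exact h3

/-- pure arithmetic endgame. -/
theorem endgame_arith (p a d S : ℕ) (hp : p.Prime) (hd : 1 ≤ d) (hS0 : S ≠ 0)
    (hS : S.factorization p = 2 * a - d) (hda : d ≤ a)
    (hstr : (∃ (n c : ℕ), 0 < n ∧ 1 ≤ c ∧ c ≤ 2 ∧ S = c * n ^ 2 ∧ p ^ a ∣ c * n) ∨
      (∃ (n₁ n₂ : ℕ), S = n₁ ^ 2 + n₂ ^ 2 ∧ p ^ a ∣ n₁ ∧ p ^ a ∣ n₂)) :
    p = 2 ∧ d = 1 := by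
  have : Fact p.Prime := ⟨hp⟩
  rcases hstr with ⟨n, c, hn, hc1, hc2, hSc, hdiv⟩ | ⟨n₁, n₂, hSn, h1, h2⟩
  · have hn0 : n ≠ 0 := by omega
    have hc0 : c ≠ 0 := by omega
    have h3 : a ≤ (c * n).factorization p :=
      (hp.pow_dvd_iff_le_factorization (Nat.mul_ne_zero hc0 hn0)).1 hdiv
    rw [Nat.factorization_mul hc0 hn0] at h3
    simp only [Finsupp.coe_add, Pi.add_apply] at h3
    have h4 : S.factorization p = c.factorization p + 2 * n.factorization p := by
      rw [hSc, Nat.factorization_mul hc0 (pow_ne_zero 2 hn0), Nat.factorization_pow]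
      simp
    have hcle : c.factorization p ≤ (2 : ℕ).factorization p := by
      interval_cases c
      · simp
      · exact le_rfl
    have h2p : (2 : ℕ).factorization p ≤ 1 := by
      by_cases h : p = 2
      · subst h; simp [Nat.Prime.factorization_self Nat.prime_two]
      · rw [Nat.factorization_eq_zero_of_not_dvd]
        · omega
        · intro hdvd
          exact h ((Nat.prime_dvd_prime_iff_eq hp Nat.prime_two).1 hdvd)
    have hd' : d ≤ c.factorization p := by omega
    have hd1 : d = 1 := by omega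
    refine ⟨?_, hd1⟩
    by_contra h
    have : (2 : ℕ).factorization p = 0 := by
      apply Nat.factorization_eq_zero_of_not_dvd
      intro hdvd
      exact h ((Nat.prime_dvd_prime_iff_eq hp Nat.prime_two).1 hdvd)
    omega
  · exfalso
    have h3 : p ^ (2 * a) ∣ S := by
      rw [hSn, mul_comm, pow_mul]
      exact dvd_add (pow_dvd_pow_of_dvd h1 2) (pow_dvd_pow_of_dvd h2 2)
    have h4 : 2 * a ≤ S.factorization p := (hp.pow_dvd_iff_le_factorization hS0).1 h3
    omega

/-- the defect of a block with two characters is positive. -/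
theorem defect_facts (p : ℕ) [Fact p.Prime] (hM : IsPModular p M) (B : Set (IrrCharacter G))
    (hB : IsPBlock M B) (hk : Nat.card B = 2) :
    1 ≤ blockDefect p B ∧ blockDefect p B ≤ (Nat.card G).factorization p ∧
      (∑ᶠ χ ∈ B, charDegree (χ : G → ℂ) ^ 2) ≠ 0 := by
  classical
  have hMp : M.IsPrime := inferInstance
  have hne : B.Nonempty := isPBlock_nonempty hMp hB
  obtain ⟨χ, hχ, hdef, -⟩ := Helper16.exists_height_zero' p B hne
  have hle := Helper16.factorization_charDegree_le p χ
  refine ⟨?_, ?_, ?_⟩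
  · by_contra hlt
    have hd0 : blockDefect p B = 0 := by omega
    have heq : (charDegree (χ : G → ℂ)).factorization p = (Nat.card G).factorization p := by omega
    have h1 := Helper79.blockOf_eq_singleton_of_defect_zero hM χ heq
    have h2 := isPBlock_eq_blockOf_of_mem hMp hB hχ
    rw [h2, h1] at hk
    simp at hk
  · rw [hdef]; exact Nat.sub_le _ _
  · have hfin : B.Finite := Set.toFinite B
    rw [finsum_mem_eq_finite_toFinset_sum _ hfin]
    intro h0
    have h1 := (Finset.sum_eq_zero_iff.1 h0) χ (hfin.mem_toFinset.2 hχ)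
    have h2 := charDegree_pos_of_isIrrCharacter χ.2
    have : charDegree (χ : G → ℂ) ^ 2 ≠ 0 := pow_ne_zero 2 h2.ne'
    exact this h1

/-- **Brandt**: `k(B) = 2 ⟹ |D| = 2`. -/
theorem card_defectGroup_eq_two_of_card_block_eq_two (p : ℕ) [Fact p.Prime]
    (hM : IsPModular p M) (B : Set (IrrCharacter G)) (hB : IsPBlock M B) (D : Subgroup G)
    (hD : IsDefectGroup p M B D) (hk : Nat.card B = 2) : Nat.card D = 2 := by
  classical
  have hpr : p.Prime := Fact.out
  have : IsAlgClosed (ResField M) := Helper22.ResFieldAlgClosed.resField_isAlgClosed M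
  have : CharP (ResField M) p := resField_charP hM
  set k := ResField M with hk_def
  set S := ∑ᶠ χ ∈ B, charDegree (χ : G → ℂ) ^ 2 with hS_def
  set a := (Nat.card G).factorization p with ha_def
  set d := blockDefect p B with hd_def
  have hcardD : Nat.card D = p ^ d := Cfsg.Agent.S0908.result p M hM B hB D hD
  have hSfac : S.factorization p = 2 * a - d := Cfsg.Agent.S4491.result p M hM B hB
  obtain ⟨hd1, hda, hS0⟩ := defect_facts M p hM B hB hk
  obtain ⟨lam, hlam⟩ := exists_symmForm_monoidAlgebra (G := G) k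
  have hε0 : epsB M B ≠ 0 := by
    intro h0
    have h1 := finrank_leftSpace_epsB M hB
    rw [h0] at h1
    have h2 : leftSpace k (0 : MonoidAlgebra k G) = ⊥ := by
      rw [eq_bot_iff]
      intro x hx
      obtain ⟨a, rfl⟩ := mem_leftSpace.1 hx
      simp
    rw [h2, finrank_bot] at h1
    exact hS0 h1.symm
  have hZ := finrank_center_mul_epsB_le M hB
  rw [hk] at hZ
  have hstr := relative_RT lam hlam (epsB M B) (epsB_isIdempotentElem M hB) (epsB_central M B)
    hε0 hZ
  rw [finrank_leftSpace_epsB M hB] at hstr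
  have harith : p = 2 ∧ d = 1 := by
    refine endgame_arith p a d S hpr hd1 hS0 hSfac hda ?_
    rcases hstr with ⟨n, c, e, hn, hc1, hc2, he, hA, hl⟩ | ⟨n₁, n₂, e₁, e₂, he₁, he₂, hA, hl₁, hl₂⟩
    · left
      refine ⟨n, c, hn, hc1, hc2, hA, ?_⟩
      rw [← hl]
      exact Cfsg.Agent.Helper80.BrandtGG.pow_factorization_dvd_finrank_leftSpace k p e he
    · right
      refine ⟨n₁, n₂, hA, ?_, ?_⟩
      · rw [← hl₁]; exact Cfsg.Agent.Helper80.BrandtGG.pow_factorization_dvd_finrank_leftSpace k p e₁ he₁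
      · rw [← hl₂]; exact Cfsg.Agent.Helper80.BrandtGG.pow_factorization_dvd_finrank_leftSpace k p e₂ he₂
  rw [hcardD, harith.1, harith.2, pow_one]

end group

end Cfsg.Agent.Helper78.Brandt

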