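import Cfsg.Agent.Helper78.Brandt.Defs
import Cfsg.Agent.Helper65.BrandtR1
import Cfsg.Agent.Helper48.BrandtR2
import Cfsg.Agent.Helper29.BrandtR3
import Cfsg.Agent.Helper53.BrandtR4
import Cfsg.Agent.Helper24.BrandtR5
import Cfsg.Agent.Helper41.BrandtR6
import Cfsg.Agent.Helper38.BrandtR7
import Cfsg.Agent.Helper75.BrandtREL

/-!
# The structure of a symmetric algebra whose center has dimension at most two

Assembly of the ring-theoretic pieces B-R1 ... B-R7 and B-REL (helper65, helper48, helper29,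
helper53, helper24, helper41, helper38, helper75) for Brandt's theorem `k(B) = 2 ⟹ |D| = 2`
(S4607).  Over an algebraically closed field `k`, a finite-dimensional symmetric algebra `A` with
`dim Z(A) ≤ 2` has dimension `c n ^ 2` with a projective left ideal `A e` of dimension `c n`
(`c ≤ 2`), or is a product of two matrix algebras.
-/

set_option autoImplicit false

namespace Cfsg.Agent.Helper78.Brandt

open Module Cfsg Cfsg.Agent.Helper78

variable {k : Type*} [Field k] {A : Type*} [Ring A] [Algebra k A]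

/-- one simple component (assembly of B-R1b, B-R2, B-R3, B-R4, B-R7). -/
theorem structure_of_one_component [FiniteDimensional k A] (lam : A →ₗ[k] k)
    (h : IsSymmForm k lam) {n : ℕ} [NeZero n] (J : Ideal A) [J.IsTwoSided]
    (hJ : ∃ N : ℕ, J ^ N = ⊥) (φ : (A ⧸ J) ≃ₐ[k] Matrix (Fin n) (Fin n) k)
    (hcodim : finrank k A ≤ finrank k (commSpan k A) + 2) :
    ∃ (c : ℕ) (e : A), 1 ≤ c ∧ c ≤ 2 ∧ IsIdempotentElem e ∧ finrank k A = c * n ^ 2 ∧
      finrank k (leftSpace k e) = c * n := by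
  obtain ⟨e, x, y, I, he, hφe, he0, hxy, hI1, hI2, hnil, hspan⟩ :=
    Cfsg.Agent.Helper38.BrandtR7.exists_lifting_data (k := k) J hJ φ
  have h2 := Cfsg.Agent.Helper48.BrandtR2.finrank_cornerSpace_add_finrank_commSpan_le
    (k := k) e he x y hxy
  have hdim : finrank k (cornerSpace k e) ≤ finrank k (cornerCommSpan k e) + 2 := by omega
  have h3 := Cfsg.Agent.Helper29.Brandt.finrank_cornerSpace_le_two e he I hI1 hI2 hnil hspan hdim
  have hc1 : 1 ≤ finrank k (cornerSpace k e) := by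
    have hmem : e ∈ cornerSpace k e := mem_cornerSpace.2 ⟨e, by rw [he.eq, he.eq]⟩
    have : 0 < finrank k (cornerSpace k e) :=
      Module.finrank_pos_iff_exists_ne_zero.2 ⟨⟨e, hmem⟩, fun h0 => he0 (congrArg Subtype.val h0)⟩
    omega
  obtain ⟨h4a, h4b⟩ :=
    Cfsg.Agent.Helper53.Brandt.finrank_eq_mul_of_matrix_quotient (k := k) J hJ φ e he hφe
  have h5 := Cfsg.Agent.Helper65.BrandtR1.finrank_rightSpace_eq_finrank_leftSpace lam h e he
  refine ⟨finrank k (cornerSpace k e), e, hc1, h3, he, ?_, ?_⟩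
  · rw [h4a, h5, h4b]; ring
  · rw [h4b]; ring

/-- **Abstract structure theorem** for a symmetric algebra with center of dimension `≤ 2`. -/
theorem abstract_RT [IsAlgClosed k] [FiniteDimensional k A] [Nontrivial A] (lam : A →ₗ[k] k)
    (h : IsSymmForm k lam) (hZ : finrank k (Subalgebra.center k A) ≤ 2) :
    (∃ (n c : ℕ) (e : A), 0 < n ∧ 1 ≤ c ∧ c ≤ 2 ∧ IsIdempotentElem e ∧
        finrank k A = c * n ^ 2 ∧ finrank k (leftSpace k e) = c * n) ∨
    (∃ (n₁ n₂ : ℕ) (e₁ e₂ : A), IsIdempotentElem e₁ ∧ IsIdempotentElem e₂ ∧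
        finrank k A = n₁ ^ 2 + n₂ ^ 2 ∧ finrank k (leftSpace k e₁) = n₁ ∧
        finrank k (leftSpace k e₂) = n₂) := by
  have hart : IsArtinianRing A := IsArtinianRing.of_finite k A
  have hJnil : ∃ N : ℕ, (Ring.jacobson A) ^ N = ⊥ := by
    obtain ⟨N, hN⟩ := (IsSemiprimaryRing.isNilpotent : IsNilpotent (Ring.jacobson A))
    exact ⟨N, by simpa using hN⟩
  have hfd : FiniteDimensional k (A ⧸ Ring.jacobson A) :=
    Module.Finite.of_surjective (Ideal.Quotient.mkₐ k (Ring.jacobson A)).toLinearMap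
      (Ideal.Quotient.mkₐ_surjective k _)
  obtain ⟨r, d, hd, ⟨φ⟩⟩ :=
    IsSemisimpleRing.exists_algEquiv_pi_matrix_of_isAlgClosed k (A ⧸ Ring.jacobson A)
  have h1 := Cfsg.Agent.Helper65.BrandtR1.finrank_center_add_finrank_commSpan lam h
  have hcodim : finrank k A ≤ finrank k (commSpan k A) + 2 := by omega
  have hr := Cfsg.Agent.Helper24.BrandtR5.card_add_finrank_commSpan_le
    (k := k) (Ring.jacobson A) d hd φ
  have hr2 : r ≤ 2 := by omega
  interval_cases r
  · exfalso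
    have hsub : Subsingleton (A ⧸ Ring.jacobson A) := φ.toEquiv.subsingleton
    have h1J : (1 : A) ∈ Ring.jacobson A := by
      rw [← Ideal.Quotient.eq_zero_iff_mem]
      exact Subsingleton.elim _ _
    have htop : Ring.jacobson A = ⊤ := (Ideal.eq_top_iff_one _).2 h1J
    obtain ⟨N, hN⟩ := hJnil
    rw [htop] at hN
    have : (⊤ : Ideal A) ^ N = ⊤ := Ideal.top_pow A N
    rw [this] at hN
    exact top_ne_bot hN
  · left
    have : NeZero (d 0) := hd 0
    let ψ0 : ((i : Fin 1) → Matrix (Fin (d i)) (Fin (d i)) k) ≃+*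
        Matrix (Fin (d 0)) (Fin (d 0)) k :=
      RingEquiv.piUnique (fun i : Fin 1 => Matrix (Fin (d i)) (Fin (d i)) k)
    let ψ : ((i : Fin 1) → Matrix (Fin (d i)) (Fin (d i)) k) ≃ₐ[k]
        Matrix (Fin (d 0)) (Fin (d 0)) k :=
      AlgEquiv.ofRingEquiv (f := ψ0) (fun c => rfl)
    obtain ⟨c, e, hc1, hc2, he, hA, hl⟩ :=
      structure_of_one_component lam h (Ring.jacobson A) hJnil (φ.trans ψ) hcodim
    exact ⟨d 0, c, e, Nat.pos_of_ne_zero (NeZero.ne _), hc1, hc2, he, hA, hl⟩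
  · right
    obtain ⟨e₁, e₂, h1, h2, h3, h4, h5⟩ :=
      Cfsg.Agent.Helper41.BrandtR6.structure_of_two_components lam h (Ring.jacobson A) d hd φ
        hcodim
    exact ⟨d 0, d 1, e₁, e₂, h1, h2, h3, h4, h5⟩

/-- **Relative structure theorem**: the block algebra `A ε` of a central idempotent `ε` of a
symmetric algebra `A` (B-REL, helper75, applied to `abstract_RT`). -/
theorem relative_RT [IsAlgClosed k] [FiniteDimensional k A] (lam : A →ₗ[k] k)
    (h : IsSymmForm k lam) (ε : A) (hε : IsIdempotentElem ε) (hεc : ∀ a : A, ε * a = a * ε)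
    (hε0 : ε ≠ 0)
    (hZ : finrank k (Submodule.map (LinearMap.mulRight k ε)
      (Subalgebra.toSubmodule (Subalgebra.center k A))) ≤ 2) :
    (∃ (n c : ℕ) (e : A), 0 < n ∧ 1 ≤ c ∧ c ≤ 2 ∧ IsIdempotentElem e ∧
        finrank k (leftSpace k ε) = c * n ^ 2 ∧ finrank k (leftSpace k e) = c * n) ∨
    (∃ (n₁ n₂ : ℕ) (e₁ e₂ : A), IsIdempotentElem e₁ ∧ IsIdempotentElem e₂ ∧
        finrank k (leftSpace k ε) = n₁ ^ 2 + n₂ ^ 2 ∧ finrank k (leftSpace k e₁) = n₁ ∧
        finrank k (leftSpace k e₂) = n₂) :=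
  Cfsg.Agent.Helper75.BrandtREL.relative_RT_of_abstract
    (fun A' _ _ _ _ lam' h' hZ' => abstract_RT lam' h' hZ') lam h ε hε hεc hε0 hZ

end Cfsg.Agent.Helper78.Brandt
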